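import Groth.Agent.ResProp.EF.K82.Contract

/-!
# (D2) Total integrals: torsion of the cohomology of `M ⊗ B`

`A` a commutative Hopf algebra, `B` an `A`-comodule algebra, `f ∈ B` coinvariant, `B' = B[1/f]`, `j : A → B'` a
morphism of comodules with `j 1 = 1` (for instance an equivariant algebra map).  Then for every `A`-comodule `M` the
cohomology of `M ⊗ B` in degrees `≥ 1` is `f`-power torsion.
-/

set_option autoImplicit false

universe u

open TensorProduct ComodTens

noncomputable section

namespace Groth.Agent.ResProp.EF.K82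

section Psi

variable {k A : Type u} [CommRing k] [CommRing A] [HopfAlgebra k A]
  {N : Type u} [AddCommGroup N] [Module k N] (cN : HopfRep.Comod k A N)

/-- `n ⊗ a ↦ n₀ ⊗ n₁ a` -/
def psi : N ⊗[k] A →ₗ[k] N ⊗[k] A :=
  (LinearMap.mul' k A).lTensor N ∘ₗ (TensorProduct.assoc k N A A).toLinearMap ∘ₗ cN.coact.rTensor A

/-- `n ⊗ a ↦ n₀ ⊗ S(n₁) a` -/
def phi : N ⊗[k] A →ₗ[k] N ⊗[k] A :=
  (LinearMap.mul' k A ∘ₗ (HopfAlgebra.antipode k (A := A)).rTensor A).lTensor N ∘ₗ
    (TensorProduct.assoc k N A A).toLinearMap ∘ₗ cN.coact.rTensor A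

theorem psi_tmul (n : N) (a : A) : psi cN (n ⊗ₜ a) = (LinearMap.mulRight k a).lTensor N (cN.coact n) := by
  simp only [psi, LinearMap.comp_apply, LinearMap.rTensor_tmul, LinearEquiv.coe_coe]
  generalize cN.coact n = y
  induction y using TensorProduct.induction_on with
  | zero => simp
  | add x y hx hy => rw [TensorProduct.add_tmul, map_add, map_add, map_add, hx, hy]
  | tmul x b => simp

theorem phi_tmul (n : N) (a : A) : phi cN (n ⊗ₜ a) =
    (LinearMap.mulRight k a ∘ₗ HopfAlgebra.antipode k (A := A)).lTensor N (cN.coact n) := by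
  simp only [phi, LinearMap.comp_apply, LinearMap.rTensor_tmul, LinearEquiv.coe_coe]
  generalize cN.coact n = y
  induction y using TensorProduct.induction_on with
  | zero => simp
  | add x y hx hy => rw [TensorProduct.add_tmul, map_add, map_add, map_add, hx, hy]
  | tmul x b => simp

theorem coassoc_apply (n : N) : TensorProduct.assoc k N A A (cN.coact.rTensor A (cN.coact n)) =
    (CoalgebraStruct.comul (R := k) (A := A)).lTensor N (cN.coact n) :=
  LinearMap.congr_fun cN.coassoc n

theorem counit_apply (n : N) : (CoalgebraStruct.counit (R := k) (A := A)).lTensor N (cN.coact n) = n ⊗ₜ (1 : k) :=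
  LinearMap.congr_fun cN.counit_comp n

theorem counit_smul_apply (n : N) (a : A) :
    ((LinearMap.toSpanSingleton k A a) ∘ₗ (CoalgebraStruct.counit (R := k) (A := A))).lTensor N (cN.coact n) =
      n ⊗ₜ a := by
  rw [LinearMap.lTensor_comp, LinearMap.comp_apply, counit_apply]
  simp

theorem psi_phi (n : N) (a : A) : psi cN (phi cN (n ⊗ₜ a)) = n ⊗ₜ a := by
  have h1 : ∀ y : N ⊗[k] A, psi cN ((LinearMap.mulRight k a ∘ₗ HopfAlgebra.antipode k (A := A)).lTensor N y) =
      (LinearMap.mulRight k a ∘ₗ LinearMap.mul' k A ∘ₗ (HopfAlgebra.antipode k (A := A)).lTensor A).lTensor N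
        (TensorProduct.assoc k N A A (cN.coact.rTensor A y)) := by
    intro y
    induction y using TensorProduct.induction_on with
    | zero => simp
    | add x y hx hy => rw [map_add, map_add, map_add, map_add, map_add, hx, hy]
    | tmul x b =>
      rw [LinearMap.lTensor_tmul, psi_tmul, LinearMap.rTensor_tmul]
      generalize cN.coact x = z
      induction z using TensorProduct.induction_on with
      | zero => simp
      | add x y hx hy => rw [TensorProduct.add_tmul, map_add, map_add, map_add, hx, hy]
      | tmul x c => simp [mul_assoc]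
  rw [phi_tmul, h1, coassoc_apply, ← LinearMap.comp_apply, ← LinearMap.lTensor_comp]
  have h2 : (LinearMap.mulRight k a ∘ₗ LinearMap.mul' k A ∘ₗ (HopfAlgebra.antipode k (A := A)).lTensor A) ∘ₗ
      (CoalgebraStruct.comul (R := k) (A := A)) =
      (LinearMap.toSpanSingleton k A a) ∘ₗ (CoalgebraStruct.counit (R := k) (A := A)) := by
    refine LinearMap.ext fun x => ?_
    have := LinearMap.congr_fun (HopfAlgebra.mul_antipode_lTensor_comul (R := k) (A := A)) x
    simp only [LinearMap.comp_apply] at this ⊢
    rw [this]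
    simp [Algebra.smul_def]
  rw [h2, counit_smul_apply]

theorem phi_psi (n : N) (a : A) : phi cN (psi cN (n ⊗ₜ a)) = n ⊗ₜ a := by
  have h1 : ∀ y : N ⊗[k] A, phi cN ((LinearMap.mulRight k a).lTensor N y) =
      (LinearMap.mulRight k a ∘ₗ LinearMap.mul' k A ∘ₗ (HopfAlgebra.antipode k (A := A)).rTensor A).lTensor N
        (TensorProduct.assoc k N A A (cN.coact.rTensor A y)) := by
    intro y
    induction y using TensorProduct.induction_on with
    | zero => simp
    | add x y hx hy => rw [map_add, map_add, map_add, map_add, map_add, hx, hy]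
    | tmul x b =>
      rw [LinearMap.lTensor_tmul, phi_tmul, LinearMap.rTensor_tmul]
      generalize cN.coact x = z
      induction z using TensorProduct.induction_on with
      | zero => simp
      | add x y hx hy => rw [TensorProduct.add_tmul, map_add, map_add, map_add, hx, hy]
      | tmul x c => simp [mul_assoc]
  rw [psi_tmul, h1, coassoc_apply, ← LinearMap.comp_apply, ← LinearMap.lTensor_comp]
  have h2 : (LinearMap.mulRight k a ∘ₗ LinearMap.mul' k A ∘ₗ (HopfAlgebra.antipode k (A := A)).rTensor A) ∘ₗ
      (CoalgebraStruct.comul (R := k) (A := A)) =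
      (LinearMap.toSpanSingleton k A a) ∘ₗ (CoalgebraStruct.counit (R := k) (A := A)) := by
    refine LinearMap.ext fun x => ?_
    have := LinearMap.congr_fun (HopfAlgebra.mul_antipode_rTensor_comul (R := k) (A := A)) x
    simp only [LinearMap.comp_apply] at this ⊢
    rw [this]
    simp [Algebra.smul_def]
  rw [h2, counit_smul_apply]

theorem psi_phi' (y : N ⊗[k] A) : psi cN (phi cN y) = y := by
  induction y using TensorProduct.induction_on with
  | zero => simp
  | add x y hx hy => rw [map_add, map_add, hx, hy]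
  | tmul x b => exact psi_phi cN x b

theorem phi_psi' (y : N ⊗[k] A) : phi cN (psi cN y) = y := by
  induction y using TensorProduct.induction_on with
  | zero => simp
  | add x y hx hy => rw [map_add, map_add, hx, hy]
  | tmul x b => exact phi_psi cN x b

/-- `psi` is a morphism from the tensor product with the regular comodule to the cofree comodule -/
theorem psi_colinear : Hoch.Ind.coactAux k A N ∘ₗ psi cN =
    (psi cN).rTensor A ∘ₗ (Comod.tensor cN (HopfRep.Comod.regular k A)).coact := by
  have h1 : ∀ (y : N ⊗[k] A) (t : A ⊗[k] A), (psi cN).rTensor A (TensorProduct.map LinearMap.id (LinearMap.mul' k A)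
      (AlgebraTensorModule.tensorTensorTensorComm k k k k N A A A (y ⊗ₜ[k] t))) =
      (TensorProduct.assoc k N A A).symm ((LinearMap.mulRight k t).lTensor N
        (TensorProduct.assoc k N A A (cN.coact.rTensor A y))) := by
    intro y t
    induction y using TensorProduct.induction_on with
    | zero => simp
    | add x y hx hy => simp only [TensorProduct.add_tmul, map_add, hx, hy]
    | tmul x b =>
      induction t using TensorProduct.induction_on with
      | zero => simp
      | add s t hs ht =>
        rw [TensorProduct.tmul_add, map_add, map_add, map_add, hs, ht, ← map_add, ← LinearMap.add_apply]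
        congr 2
        rw [← LinearMap.lTensor_add]
        congr 1
        refine LinearMap.ext fun z => ?_
        simp [mul_add]
      | tmul a1 a2 =>
        rw [LinearMap.rTensor_tmul, AlgebraTensorModule.tensorTensorTensorComm_tmul, TensorProduct.map_tmul,
          LinearMap.rTensor_tmul, LinearMap.id_apply, psi_tmul]
        generalize cN.coact x = z
        induction z using TensorProduct.induction_on with
        | zero => simp
        | add x y hx hy => simp only [TensorProduct.add_tmul, map_add, hx, hy]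
        | tmul x c => simp
  refine TensorProduct.ext' fun n a => ?_
  rw [LinearMap.comp_apply, LinearMap.comp_apply, tensor_coact_tmul, h1, coassoc_apply, psi_tmul]
  generalize cN.coact n = y
  induction y using TensorProduct.induction_on with
  | zero => simp
  | add x y hx hy => simp only [map_add, hx, hy]
  | tmul x b =>
    rw [LinearMap.lTensor_tmul, Hoch.Ind.coactAux_tmul, LinearMap.lTensor_tmul, LinearMap.lTensor_tmul,
      LinearMap.mulRight_apply, LinearMap.mulRight_apply, Bialgebra.comul_mul]
    rfl

theorem phi_colinear : (Comod.tensor cN (HopfRep.Comod.regular k A)).coact ∘ₗ phi cN =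
    (phi cN).rTensor A ∘ₗ Hoch.Ind.coactAux k A N := by
  refine LinearMap.ext fun y => ?_
  have h := LinearMap.congr_fun (psi_colinear cN) (phi cN y)
  rw [LinearMap.comp_apply, LinearMap.comp_apply, psi_phi'] at h
  have h3 : ∀ w, (phi cN).rTensor A ((psi cN).rTensor A w) = w := by
    intro w
    have : phi cN ∘ₗ psi cN = LinearMap.id := LinearMap.ext (phi_psi' cN)
    rw [← LinearMap.comp_apply, ← LinearMap.rTensor_comp, this, LinearMap.rTensor_id, LinearMap.id_apply]
  rw [LinearMap.comp_apply, LinearMap.comp_apply, h, h3]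

end Psi

section Tensor

variable {k A : Type u} [CommRing k] [CommRing A] [Bialgebra k A]

/-- `V ⊗ f` is a morphism of comodules if `f` is -/
theorem lTensor_hom {V W W' : Type u} [AddCommGroup V] [Module k V] [AddCommGroup W] [Module k W]
    [AddCommGroup W'] [Module k W'] (cV : HopfRep.Comod k A V) (cW : HopfRep.Comod k A W)
    (cW' : HopfRep.Comod k A W') (f : W →ₗ[k] W') (hf : cW'.coact ∘ₗ f = f.rTensor A ∘ₗ cW.coact) :
    (Comod.tensor cV cW').coact ∘ₗ f.lTensor V = (f.lTensor V).rTensor A ∘ₗ (Comod.tensor cV cW).coact := by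
  have h1 : ∀ (y : V ⊗[k] A) (t : W ⊗[k] A),
      TensorProduct.map LinearMap.id (LinearMap.mul' k A)
        (AlgebraTensorModule.tensorTensorTensorComm k k k k V A W' A (y ⊗ₜ[k] (f.rTensor A t))) =
      (f.lTensor V).rTensor A (TensorProduct.map LinearMap.id (LinearMap.mul' k A)
        (AlgebraTensorModule.tensorTensorTensorComm k k k k V A W A (y ⊗ₜ[k] t))) := by
    intro y t
    induction y using TensorProduct.induction_on with
    | zero => simp
    | add x y hx hy => simp only [TensorProduct.add_tmul, map_add, hx, hy]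
    | tmul x b =>
      induction t using TensorProduct.induction_on with
      | zero => simp
      | add s t hs ht => simp only [TensorProduct.tmul_add, map_add, hs, ht]
      | tmul a1 a2 => simp
  refine TensorProduct.ext' fun v w => ?_
  have h2 := LinearMap.congr_fun hf w
  simp only [LinearMap.comp_apply] at h2
  rw [LinearMap.comp_apply, LinearMap.comp_apply, LinearMap.lTensor_tmul, tensor_coact_tmul, tensor_coact_tmul,
    h2, h1]

variable {M : Type u} [AddCommGroup M] [Module k M] (cM : HopfRep.Comod k A M)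
  {B : Type u} [CommRing B] [Algebra k B] (cB : HopfRep.Comod k A B)

variable (k M B) in
/-- the action of `B` on `M ⊗ B` -/
def act : (M ⊗[k] B) ⊗[k] B →ₗ[k] M ⊗[k] B :=
  (LinearMap.mul' k B).lTensor M ∘ₗ (TensorProduct.assoc k M B B).toLinearMap

theorem act_tmul (m : M) (b b' : B) : act k M B ((m ⊗ₜ b) ⊗ₜ b') = m ⊗ₜ (b * b') := by
  simp [act]

theorem act_one (v : M ⊗[k] B) : act k M B (v ⊗ₜ 1) = v := by
  induction v using TensorProduct.induction_on with
  | zero => simp
  | add x y hx hy => rw [TensorProduct.add_tmul, map_add, hx, hy]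
  | tmul m b => rw [act_tmul, mul_one]

/-- the action of `B` on `M ⊗ B` is a morphism of comodules -/
theorem act_hom (hmul : ∀ x y, cB.coact (x * y) = cB.coact x * cB.coact y) :
    (Comod.tensor cM cB).coact ∘ₗ act k M B =
      (act k M B).rTensor A ∘ₗ (Comod.tensor (Comod.tensor cM cB) cB).coact := by
  have h1 : ∀ (y : M ⊗[k] A) (s t : B ⊗[k] A),
      TensorProduct.map LinearMap.id (LinearMap.mul' k A)
        (AlgebraTensorModule.tensorTensorTensorComm k k k k M A B A (y ⊗ₜ[k] (s * t))) =
      (act k M B).rTensor A (TensorProduct.map LinearMap.id (LinearMap.mul' k A)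
        (AlgebraTensorModule.tensorTensorTensorComm k k k k (M ⊗[k] B) A B A
          ((TensorProduct.map LinearMap.id (LinearMap.mul' k A)
            (AlgebraTensorModule.tensorTensorTensorComm k k k k M A B A (y ⊗ₜ[k] s))) ⊗ₜ[k] t))) := by
    intro y s t
    induction y using TensorProduct.induction_on with
    | zero => simp
    | add x y hx hy => simp only [TensorProduct.add_tmul, map_add, hx, hy]
    | tmul x a =>
      induction s using TensorProduct.induction_on with
      | zero => simp
      | add s s' hs ht => simp only [TensorProduct.tmul_add, TensorProduct.add_tmul, map_add, hs, ht, add_mul]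
      | tmul b1 a1 =>
        induction t using TensorProduct.induction_on with
        | zero => simp
        | add t t' hs ht => simp only [TensorProduct.tmul_add, map_add, hs, ht, mul_add]
        | tmul b2 a2 => simp [act_tmul, mul_assoc]
  refine TensorProduct.ext' fun v b' => ?_
  induction v using TensorProduct.induction_on with
  | zero => simp
  | add x y hx hy => rw [TensorProduct.add_tmul, map_add, map_add, hx, hy]
  | tmul m b =>
    rw [LinearMap.comp_apply, LinearMap.comp_apply, act_tmul, tensor_coact_tmul, tensor_coact_tmul, tensor_coact_tmul,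
      hmul, h1]

end Tensor

section Integral

variable {k A : Type u} [CommRing k] [CommRing A] [HopfAlgebra k A]
  {M : Type u} [AddCommGroup M] [Module k M] (cM : HopfRep.Comod k A M)
  {B : Type u} [CommRing B] [Algebra k B] (cB : HopfRep.Comod k A B)

/-- the retraction of the coaction of `M ⊗ B` given by a total integral `j` -/
def ret (j : A →ₗ[k] B) : (M ⊗[k] B) ⊗[k] A →ₗ[k] M ⊗[k] B :=
  act k M B ∘ₗ j.lTensor (M ⊗[k] B) ∘ₗ phi (Comod.tensor cM cB)

theorem ret_colinear (hmul : ∀ x y, cB.coact (x * y) = cB.coact x * cB.coact y) (j : A →ₗ[k] B)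
    (hj : ∀ x, cB.coact (j x) = j.rTensor A (CoalgebraStruct.comul (R := k) x)) :
    (Comod.tensor cM cB).coact ∘ₗ ret cM cB j = (ret cM cB j).rTensor A ∘ₗ Hoch.Ind.coactAux k A (M ⊗[k] B) := by
  have h1 := act_hom cM cB hmul
  have h2 := lTensor_hom (Comod.tensor cM cB) (HopfRep.Comod.regular k A) cB j (LinearMap.ext hj)
  have h3 := phi_colinear (Comod.tensor cM cB)
  unfold ret
  rw [← LinearMap.comp_assoc, h1, LinearMap.comp_assoc, ← LinearMap.comp_assoc _ _ (Comod.tensor (Comod.tensor cM cB) cB).coact,
    h2, LinearMap.comp_assoc, h3, LinearMap.rTensor_comp, LinearMap.rTensor_comp]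
  rfl

theorem ret_coact (j : A →ₗ[k] B) (hj : j 1 = 1) (v : M ⊗[k] B) :
    ret cM cB j ((Comod.tensor cM cB).coact v) = v := by
  have h1 : (Comod.tensor cM cB).coact v = psi (Comod.tensor cM cB) (v ⊗ₜ 1) := by
    rw [psi_tmul]
    have : LinearMap.mulRight k (1 : A) = LinearMap.id := LinearMap.ext fun x => by simp
    rw [this, LinearMap.lTensor_id, LinearMap.id_apply]
  rw [h1]
  unfold ret
  rw [LinearMap.comp_apply, LinearMap.comp_apply, phi_psi', LinearMap.lTensor_tmul, hj, act_one]

end Integral

section Localize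

variable {k A : Type u} [CommRing k] [CommRing A] [Bialgebra k A]
  {B : Type u} [CommRing B] [Algebra k B] (cB : HopfRep.Comod k A B) (hone : cB.coact 1 = 1)
  (hmul : ∀ x y, cB.coact (x * y) = cB.coact x * cB.coact y)
  (f : B) (hf : cB.coact f = f ⊗ₜ[k] (1 : A)) (B' : Type u) [CommRing B'] [Algebra k B'] [Algebra B B']
  [IsScalarTower k B B'] [IsLocalization.Away f B']

/-- the coaction as an algebra homomorphism -/
def rhoAlg : B →ₐ[k] B ⊗[k] A := AlgHom.ofLinearMap cB.coact hone hmul

/-- the extension of the coaction to `B[1/f]` -/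
def rhoLoc : B' →ₐ[k] B' ⊗[k] A :=
  IsLocalization.liftAlgHom (M := Submonoid.powers f) (S := B')
    (f := (Algebra.TensorProduct.map (IsScalarTower.toAlgHom k B B') (AlgHom.id k A)).comp (rhoAlg cB hone hmul))
    (by
      rintro ⟨_, m, rfl⟩
      rw [map_pow]
      refine IsUnit.pow m ?_
      have e : ((Algebra.TensorProduct.map (IsScalarTower.toAlgHom k B B') (AlgHom.id k A)).comp
          (rhoAlg cB hone hmul)) f = (Algebra.TensorProduct.includeLeft : B' →ₐ[k] B' ⊗[k] A) (algebraMap B B' f) := by
        change (Algebra.TensorProduct.map (IsScalarTower.toAlgHom k B B') (AlgHom.id k A)) (cB.coact f) = _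
        rw [hf]
        rfl
      rw [e]
      exact (IsLocalization.Away.algebraMap_isUnit f).map _)

theorem rhoLoc_algebraMap (b : B) : rhoLoc cB hone hmul f hf B' (algebraMap B B' b) =
    (IsScalarTower.toAlgHom k B B').toLinearMap.rTensor A (cB.coact b) := by
  unfold rhoLoc
  rw [IsLocalization.liftAlgHom_apply, IsLocalization.lift_eq]
  rfl

/-- the comodule structure of `B[1/f]` -/
@[reducible] def comodLoc : HopfRep.Comod k A B' where
  coact := (rhoLoc cB hone hmul f hf B').toLinearMap
  coassoc := by
    have h := coassoc_apply_of_hom cB (rhoLoc cB hone hmul f hf B').toLinearMap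
      (IsScalarTower.toAlgHom k B B').toLinearMap (LinearMap.ext (rhoLoc_algebraMap cB hone hmul f hf B'))
    let X : B' →ₐ[k] B' ⊗[k] (A ⊗[k] A) := (Algebra.TensorProduct.assoc k k k B' A A).toAlgHom.comp
      ((Algebra.TensorProduct.map (rhoLoc cB hone hmul f hf B') (AlgHom.id k A)).comp (rhoLoc cB hone hmul f hf B'))
    let Y : B' →ₐ[k] B' ⊗[k] (A ⊗[k] A) := (Algebra.TensorProduct.map (AlgHom.id k B') (Bialgebra.comulAlgHom k A)).comp
      (rhoLoc cB hone hmul f hf B')
    have hXY : (X : B' →+* B' ⊗[k] (A ⊗[k] A)) = (Y : B' →+* B' ⊗[k] (A ⊗[k] A)) := by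
      apply IsLocalization.ringHom_ext (Submonoid.powers f)
      refine RingHom.ext fun b => ?_
      exact h b
    refine LinearMap.ext fun b => ?_
    exact congrArg (fun g : B' →+* B' ⊗[k] (A ⊗[k] A) => g b) hXY
  counit_comp := by
    have h := counit_apply_of_hom cB (rhoLoc cB hone hmul f hf B').toLinearMap
      (IsScalarTower.toAlgHom k B B').toLinearMap (LinearMap.ext (rhoLoc_algebraMap cB hone hmul f hf B'))
    let X : B' →ₐ[k] B' ⊗[k] k := (Algebra.TensorProduct.map (AlgHom.id k B') (Bialgebra.counitAlgHom k A)).comp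
      (rhoLoc cB hone hmul f hf B')
    let Y : B' →ₐ[k] B' ⊗[k] k := Algebra.TensorProduct.includeLeft
    have hXY : (X : B' →+* B' ⊗[k] k) = (Y : B' →+* B' ⊗[k] k) := by
      apply IsLocalization.ringHom_ext (Submonoid.powers f)
      refine RingHom.ext fun b => ?_
      exact h b
    refine LinearMap.ext fun b => ?_
    exact congrArg (fun g : B' →+* B' ⊗[k] k => g b) hXY

end Localize

section IsLocB

variable {k : Type u} [CommRing k] {B : Type u} [CommRing B] [Algebra k B] (f : B) (B' : Type u) [CommRing B']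
  [Algebra k B'] [Algebra B B'] [IsScalarTower k B B'] [IsLocalization.Away f B']

theorem isLoc_mul : IsLoc (LinearMap.mulLeft k f) (LinearMap.mulLeft k (algebraMap B B' f))
    (IsScalarTower.toAlgHom k B B').toLinearMap := by
  have hpow : ∀ (C : Type u) [CommRing C] [Algebra k C] (x : C) (m : ℕ) (y : C),
      ((LinearMap.mulLeft k x) ^ m) y = x ^ m * y := by
    intro C _ _ x m y
    rw [LinearMap.pow_mulLeft]
    rfl
  refine ⟨fun v => by simp, ?_, ?_, ?_⟩
  · have hu : IsUnit (algebraMap B B' f) := IsLocalization.Away.algebraMap_isUnit f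
    constructor
    · intro x y hxy
      exact hu.mul_left_cancel hxy
    · intro y
      obtain ⟨u, hu⟩ := hu
      refine ⟨(↑u⁻¹ : B') * y, ?_⟩
      rw [LinearMap.mulLeft_apply, ← hu, Units.mul_inv_cancel_left]
  · intro v'
    obtain ⟨m, b, hb⟩ := IsLocalization.Away.surj f v'
    refine ⟨m, b, ?_⟩
    rw [hpow, mul_comm]
    exact hb.symm
  · intro v hv
    have hv' : algebraMap B B' v = algebraMap B B' 0 := by rw [map_zero]; exact hv
    obtain ⟨m, hm⟩ := IsLocalization.Away.exists_of_eq f hv'
    refine ⟨m, ?_⟩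
    rw [hpow]
    simpa using hm

theorem IsLoc.lTensor {V V' : Type u} [AddCommGroup V] [Module k V] [AddCommGroup V'] [Module k V']
    {F : V →ₗ[k] V} {F' : V' →ₗ[k] V'} {l : V →ₗ[k] V'} (h : IsLoc F F' l)
    (Y : Type u) [AddCommGroup Y] [Module k Y] : IsLoc (F.lTensor Y) (F'.lTensor Y) (l.lTensor Y) := by
  have hr := h.rTensor Y
  have key : ∀ (W W' : Type u) [AddCommGroup W] [Module k W] [AddCommGroup W'] [Module k W'] (G : W →ₗ[k] W') (v : Y ⊗[k] W),
      TensorProduct.comm k Y W' (G.lTensor Y v) = G.rTensor Y (TensorProduct.comm k Y W v) := by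
    intro W W' _ _ _ _ G v
    induction v using TensorProduct.induction_on with
    | zero => simp
    | add x y hx hy => rw [map_add, map_add, map_add, map_add, hx, hy]
    | tmul m b => simp
  have keypow : ∀ (W : Type u) [AddCommGroup W] [Module k W] (G : W →ₗ[k] W) (m : ℕ) (v : Y ⊗[k] W),
      TensorProduct.comm k Y W (((G.lTensor Y) ^ m) v) = ((G.rTensor Y) ^ m) (TensorProduct.comm k Y W v) := by
    intro W _ _ G m v
    rw [LinearMap.lTensor_pow, LinearMap.rTensor_pow, key]
  refine ⟨?_, ?_, ?_, ?_⟩
  · intro v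
    apply (TensorProduct.comm k Y V').injective
    rw [key, key, key, key, hr.comm]
  · exact (LinearEquiv.lTensor Y (LinearEquiv.ofBijective F' h.bij)).bijective
  · intro v'
    obtain ⟨m, v, hv⟩ := hr.surj (TensorProduct.comm k Y V' v')
    refine ⟨m, (TensorProduct.comm k Y V).symm v, ?_⟩
    apply (TensorProduct.comm k Y V').injective
    rw [key, keypow, LinearEquiv.apply_symm_apply, hv]
  · intro v hv
    have h0 : (l.rTensor Y) (TensorProduct.comm k Y V v) = 0 := by rw [← key, hv, map_zero]
    obtain ⟨m, hm⟩ := hr.inj _ h0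
    refine ⟨m, ?_⟩
    apply (TensorProduct.comm k Y V).injective
    rw [keypow, hm, map_zero]

end IsLocB

section Main

variable {k A : Type u} [CommRing k] [CommRing A] [HopfAlgebra k A]
  {M : Type u} [AddCommGroup M] [Module k M] (cM : HopfRep.Comod k A M)
  {B : Type u} [CommRing B] [Algebra k B] (cB : HopfRep.Comod k A B)

theorem mulLeft_hom (hmul : ∀ x y, cB.coact (x * y) = cB.coact x * cB.coact y) (f : B)
    (hf : cB.coact f = f ⊗ₜ[k] (1 : A)) :
    cB.coact ∘ₗ LinearMap.mulLeft k f = (LinearMap.mulLeft k f).rTensor A ∘ₗ cB.coact := by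
  refine LinearMap.ext fun b => ?_
  rw [LinearMap.comp_apply, LinearMap.comp_apply, LinearMap.mulLeft_apply, hmul, hf]
  generalize cB.coact b = y
  induction y using TensorProduct.induction_on with
  | zero => simp
  | add x y hx hy => rw [mul_add, map_add, hx, hy]
  | tmul x a => simp

theorem cm_pow {V : Type u} [AddCommGroup V] [Module k V] (F : V →ₗ[k] V) (n m : ℕ) :
    (cm (A := A) F n) ^ m = cm (A := A) (F ^ m) n := by
  induction n with
  | zero => rfl
  | succ n ih =>
    change ((cm (A := A) F n).rTensor A) ^ m = (cm (A := A) (F ^ m) n).rTensor A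
    rw [LinearMap.rTensor_pow, ih]

/-- TORSION of the cohomology of `M ⊗ B`: a cocycle of degree `n + 1 ≥ 1` is a coboundary after multiplication with a
power of the coinvariant element `f`, if there is a morphism of comodules `j : A → B[1/f]` with `j 1 = 1` (`B[1/f]`
with THE coaction `ρ'` extending the one of `B`), for example an equivariant algebra map. -/
theorem torsion (hone : cB.coact 1 = 1) (hmul : ∀ x y, cB.coact (x * y) = cB.coact x * cB.coact y)
    (f : B) (hf : cB.coact f = f ⊗ₜ[k] (1 : A)) (B' : Type u) [CommRing B'] [Algebra k B'] [Algebra B B']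
    [IsScalarTower k B B'] [IsLocalization.Away f B'] (j : A →ₗ[k] B') (hj1 : j 1 = 1)
    (hj : ∀ ρ' : B' →ₐ[k] B' ⊗[k] A, (∀ b, ρ' (algebraMap B B' b) =
      (IsScalarTower.toAlgHom k B B').toLinearMap.rTensor A (cB.coact b)) →
      ∀ x, ρ' (j x) = j.rTensor A (CoalgebraStruct.comul (R := k) x))
    (n : ℕ) (c : (Hoch.cochain k A (M ⊗[k] B) (n + 1) : Type u))
    (hc : @Hoch.d k _ A _ _ (M ⊗[k] B) _ _ (Comod.tensor cM cB) (n + 1) c = 0) :
    ∃ (m : ℕ) (b : (Hoch.cochain k A (M ⊗[k] B) n : Type u)),
      @Hoch.d k _ A _ _ (M ⊗[k] B) _ _ (Comod.tensor cM cB) n b =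
        cm (A := A) ((LinearMap.mulLeft k (f ^ m)).lTensor M) (n + 1) c := by
  let cB' := comodLoc cB hone hmul f hf B'
  let cV := Comod.tensor cM cB
  let cV' := Comod.tensor cM cB'
  have hmul' : ∀ x y, cB'.coact (x * y) = cB'.coact x * cB'.coact y := fun x y =>
    map_mul (rhoLoc cB hone hmul f hf B') x y
  have hf' : cB'.coact (algebraMap B B' f) = (algebraMap B B' f) ⊗ₜ[k] (1 : A) := by
    change rhoLoc cB hone hmul f hf B' (algebraMap B B' f) = _
    rw [rhoLoc_algebraMap, hf]
    rfl
  obtain ⟨m, b, hb⟩ := @torsion_of_loc k A _ _ _ (M ⊗[k] B) (M ⊗[k] B') _ _ _ _ cV cV'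
    ((LinearMap.mulLeft k f).lTensor M) ((LinearMap.mulLeft k (algebraMap B B' f)).lTensor M)
    ((IsScalarTower.toAlgHom k B B').toLinearMap.lTensor M)
    (lTensor_hom cM cB cB _ (mulLeft_hom cB hmul f hf))
    (lTensor_hom cM cB' cB' _ (mulLeft_hom cB' hmul' _ hf'))
    (lTensor_hom cM cB cB' _ (LinearMap.ext (rhoLoc_algebraMap cB hone hmul f hf B')))
    ((isLoc_mul f B').lTensor M) (ret cM cB' j)
    (ret_colinear cM cB' hmul' j (hj (rhoLoc cB hone hmul f hf B') (rhoLoc_algebraMap cB hone hmul f hf B')))
    (ret_coact cM cB' j hj1) n c hc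
  refine ⟨m, b, hb.trans ?_⟩
  rw [cm_pow, LinearMap.lTensor_pow, LinearMap.pow_mulLeft]

end Main

end Groth.Agent.ResProp.EF.K82
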