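import Groth.Agent.ResProp.EF.Grp
import Mathlib.RingTheory.Localization.BaseChange
import Mathlib.Algebra.Polynomial.Module.Basic

/-!
# (D2) Contraction of the Hochschild complex, and torsion of its cohomology

`V` a comodule over a bialgebra `A`.  If `r : V ⊗ A → V` is a morphism of comodules (`V ⊗ A` cofree) with
`r ∘ ρ = id`, then `h_n = r ⊗ 1` contracts the Hochschild complex in degrees `≥ 1`.  If this is only so for a
localization `V'` of `V` at an endomorphism `F` of the comodule `V`, the cohomology of `V` in degrees `≥ 1` is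
`F`-power torsion.
-/

set_option autoImplicit false

universe u

open TensorProduct

noncomputable section

namespace Groth.Agent.ResProp.EF.K82

section Cmap

variable {k A : Type u} [CommRing k] [Ring A] [Bialgebra k A]

/-- the map on cochains induced by a linear map -/
def cm {V W : Type u} [AddCommGroup V] [Module k V] [AddCommGroup W] [Module k W] (f : V →ₗ[k] W) :
    (n : ℕ) → ((Hoch.cochain k A V n : Type u) →ₗ[k] (Hoch.cochain k A W n : Type u))
  | 0 => f
  | n + 1 => (cm f n).rTensor A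

theorem tail_natural {M N : Type u} [AddCommGroup M] [Module k M] [AddCommGroup N] [Module k N]
    (g : M →ₗ[k] N) : Hoch.tail k A N ∘ₗ g.rTensor A = (g.rTensor A).rTensor A ∘ₗ Hoch.tail k A M := by
  refine TensorProduct.ext' fun m a => ?_
  simp only [LinearMap.comp_apply, LinearMap.rTensor_tmul, Hoch.tail_tmul]
  generalize Coalgebra.comul (R := k) a - a ⊗ₜ 1 - 1 ⊗ₜ a = x
  induction x using TensorProduct.induction_on with
  | zero => simp
  | add x y hx hy => simp only [TensorProduct.tmul_add, map_add, hx, hy]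
  | tmul x y => simp

variable {V W : Type u} [AddCommGroup V] [Module k V] [AddCommGroup W] [Module k W]
  [HopfRep.Comod k A V] [HopfRep.Comod k A W]

/-- the differential commutes with the maps induced by morphisms of comodules -/
theorem d_cm (f : V →ₗ[k] W) (hf : Hoch.IsComodHom A f) (n : ℕ) :
    Hoch.d k A W n ∘ₗ cm (A := A) f n = cm (A := A) f (n + 1) ∘ₗ Hoch.d k A V n := by
  induction n with
  | zero =>
    refine LinearMap.ext fun v => ?_
    have h := LinearMap.congr_fun hf v
    simp only [LinearMap.comp_apply] at h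
    change HopfRep.Comod.coact (k := k) (A := A) (f v) - f v ⊗ₜ (1 : A) = f.rTensor A
      (HopfRep.Comod.coact (k := k) (A := A) v - v ⊗ₜ (1 : A))
    rw [h, map_sub, LinearMap.rTensor_tmul]
  | succ n ih =>
    rw [Hoch.d_succ, Hoch.d_succ]
    change ((Hoch.d k A W n).rTensor A + _) ∘ₗ (cm (A := A) f n).rTensor A =
      ((cm (A := A) f (n + 1))).rTensor A ∘ₗ _
    rw [LinearMap.add_comp, LinearMap.comp_add, ← LinearMap.rTensor_comp, ih, LinearMap.rTensor_comp,
      LinearMap.smul_comp, LinearMap.comp_smul, tail_natural]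
    rfl

end Cmap

section Contract

variable {k A : Type u} [CommRing k] [Ring A] [Bialgebra k A]
  {V : Type u} [AddCommGroup V] [Module k V] [HopfRep.Comod k A V]

theorem contract_step {M : Type u} [AddCommGroup M] [Module k M] (h0 : M ⊗[k] A →ₗ[k] M) (d0 : M →ₗ[k] M ⊗[k] A)
    (d1 : M ⊗[k] A →ₗ[k] (M ⊗[k] A) ⊗[k] A) (t t' : k) (ht : t' = -t) :
    (h0.rTensor A).rTensor A ∘ₗ (d1.rTensor A + t' • Hoch.tail k A (M ⊗[k] A)) +
      (d0.rTensor A + t • Hoch.tail k A M) ∘ₗ h0.rTensor A =
      ((h0.rTensor A) ∘ₗ d1 + d0 ∘ₗ h0).rTensor A := by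
  refine LinearMap.ext fun x => ?_
  have h1 := LinearMap.congr_fun (tail_natural (A := A) h0) x
  simp only [LinearMap.comp_apply] at h1
  rw [LinearMap.rTensor_add, LinearMap.rTensor_comp, LinearMap.rTensor_comp, ht]
  simp only [LinearMap.add_apply, LinearMap.comp_apply, LinearMap.smul_apply, map_add, map_smul, h1]
  generalize (LinearMap.rTensor A (LinearMap.rTensor A h0)) ((Hoch.tail k A (M ⊗[k] A)) x) = y
  have h2 : (-t) • y + t • y = 0 := by rw [← add_smul, neg_add_cancel, zero_smul]
  rw [add_add_add_comm, h2, add_zero]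

/-- the contraction -/
def hh (r : V ⊗[k] A →ₗ[k] V) :
    (n : ℕ) → ((Hoch.cochain k A V (n + 1) : Type u) →ₗ[k] (Hoch.cochain k A V n : Type u))
  | 0 => r
  | n + 1 => (hh r n).rTensor A

theorem hh_d (r : V ⊗[k] A →ₗ[k] V)
    (hr : HopfRep.Comod.coact (k := k) (A := A) ∘ₗ r = r.rTensor A ∘ₗ Hoch.Ind.coactAux k A V)
    (hr1 : ∀ v : V, r (HopfRep.Comod.coact (k := k) (A := A) v) = v) (n : ℕ) :
    hh r (n + 1) ∘ₗ Hoch.d k A V (n + 1) + Hoch.d k A V n ∘ₗ hh r n = LinearMap.id := by
  induction n with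
  | zero =>
    refine TensorProduct.ext' fun v a => ?_
    have h := LinearMap.congr_fun hr (v ⊗ₜ a)
    simp only [LinearMap.comp_apply, Hoch.Ind.coactAux_tmul] at h
    rw [Hoch.d_succ]
    simp only [LinearMap.add_apply, LinearMap.comp_apply, LinearMap.id_apply, LinearMap.smul_apply]
    change r.rTensor A ((Hoch.d k A V 0).rTensor A (v ⊗ₜ a) + (-1 : k) ^ (0 + 1) •
      Hoch.tail k A V (v ⊗ₜ a)) + Hoch.d k A V 0 (r (v ⊗ₜ a)) = v ⊗ₜ a
    rw [LinearMap.rTensor_tmul, Hoch.d_zero_apply, Hoch.d_zero_apply, h, Hoch.tail_tmul, map_add, map_smul]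
    simp only [TensorProduct.sub_tmul, TensorProduct.tmul_sub, map_sub, TensorProduct.assoc_symm_tmul,
      LinearMap.rTensor_tmul, hr1]
    simp only [zero_add, pow_one, neg_smul, one_smul]
    abel
  | succ n ih =>
    have e : hh r (n + 1 + 1) ∘ₗ Hoch.d k A V (n + 1 + 1) + Hoch.d k A V (n + 1) ∘ₗ hh r (n + 1) =
        (hh r (n + 1) ∘ₗ Hoch.d k A V (n + 1) + Hoch.d k A V n ∘ₗ hh r n).rTensor A :=
      contract_step (hh r n) (Hoch.d k A V n) (Hoch.d k A V (n + 1)) ((-1 : k) ^ (n + 1))
        ((-1 : k) ^ (n + 1 + 1)) (by rw [pow_succ, mul_neg_one])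
    rw [e, ih, LinearMap.rTensor_id]

end Contract

section Loc

open Polynomial

variable {k : Type u} [CommRing k] {V V' : Type u} [AddCommGroup V] [Module k V] [AddCommGroup V'] [Module k V']

/-- `l : V → V'` is the localization of `V` at the endomorphism `F` -/
structure IsLoc (F : V →ₗ[k] V) (F' : V' →ₗ[k] V') (l : V →ₗ[k] V') : Prop where
  comm : ∀ v, l (F v) = F' (l v)
  bij : Function.Bijective F'
  surj : ∀ v', ∃ (m : ℕ) (v : V), l v = (F' ^ m) v'
  inj : ∀ v, l v = 0 → ∃ m : ℕ, (F ^ m) v = 0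

theorem IsLoc.comm_pow {F : V →ₗ[k] V} {F' : V' →ₗ[k] V'} {l : V →ₗ[k] V'} (h : IsLoc F F' l) (m : ℕ) (v : V) :
    l ((F ^ m) v) = (F' ^ m) (l v) := by
  induction m generalizing v with
  | zero => rfl
  | succ m ih => rw [pow_succ, pow_succ, Module.End.mul_apply, Module.End.mul_apply, ih, h.comm]

theorem IsLoc.rTensor {F : V →ₗ[k] V} {F' : V' →ₗ[k] V'} {l : V →ₗ[k] V'} (h : IsLoc F F' l)
    (Y : Type u) [AddCommGroup Y] [Module k Y] : IsLoc (F.rTensor Y) (F'.rTensor Y) (l.rTensor Y) := by
  have hpow : ∀ m : ℕ, F.rTensor Y ^ m = (F ^ m).rTensor Y := fun m => LinearMap.rTensor_pow _ _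
  have hpow' : ∀ m : ℕ, F'.rTensor Y ^ m = (F' ^ m).rTensor Y := fun m => LinearMap.rTensor_pow _ _
  have hb : Function.Bijective (F'.rTensor Y) :=
    (LinearEquiv.rTensor Y (LinearEquiv.ofBijective F' h.bij)).bijective
  have hc : ∀ v, (l.rTensor Y) ((F.rTensor Y) v) = (F'.rTensor Y) ((l.rTensor Y) v) := by
    intro v
    rw [← LinearMap.comp_apply, ← LinearMap.comp_apply, ← LinearMap.rTensor_comp, ← LinearMap.rTensor_comp]
    congr 2
    exact LinearMap.ext h.comm
  refine ⟨hc, hb, ?_, ?_⟩
  · intro v'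
    induction v' using TensorProduct.induction_on with
    | zero => exact ⟨0, 0, by simp⟩
    | add x y hx hy =>
      obtain ⟨m, v, hv⟩ := hx
      obtain ⟨n, w, hw⟩ := hy
      have hcp : ∀ (i : ℕ) v, (l.rTensor Y) (((F.rTensor Y) ^ i) v) = ((F'.rTensor Y) ^ i) ((l.rTensor Y) v) := by
        intro i
        induction i with
        | zero => intro v; rfl
        | succ i ih => intro v; rw [pow_succ, pow_succ, Module.End.mul_apply, Module.End.mul_apply, ih, hc]
      refine ⟨m + n, ((F.rTensor Y) ^ n) v + ((F.rTensor Y) ^ m) w, ?_⟩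
      rw [map_add, hcp, hcp, hv, hw, map_add, ← Module.End.mul_apply, ← Module.End.mul_apply, ← pow_add, ← pow_add,
        add_comm n m]
    | tmul v' x =>
      obtain ⟨m, v, hv⟩ := h.surj v'
      refine ⟨m, v ⊗ₜ x, ?_⟩
      rw [hpow', LinearMap.rTensor_tmul, LinearMap.rTensor_tmul, hv]
  · let i1 : Module k[X] V := Module.compHom V (Polynomial.aeval F).toRingHom
    let i2 : Module k[X] V' := Module.compHom V' (Polynomial.aeval F').toRingHom
    have s1 : ∀ (q : k[X]) (v : V), q • v = (Polynomial.aeval F q) v := fun _ _ => rfl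
    have s2 : ∀ (q : k[X]) (v : V'), q • v = (Polynomial.aeval F' q) v := fun _ _ => rfl
    have t1 : IsScalarTower k k[X] V := ⟨fun a q v => by rw [s1, s1, map_smul, LinearMap.smul_apply]⟩
    have t2 : IsScalarTower k k[X] V' := ⟨fun a q v => by rw [s2, s2, map_smul, LinearMap.smul_apply]⟩
    have c1 : ∀ (q : k[X]) (v : V), l (q • v) = q • l v := by
      intro q v
      rw [s1, s2]
      induction q using Polynomial.induction_on' with
      | add p q hp hq => rw [map_add, map_add, LinearMap.add_apply, LinearMap.add_apply, map_add, hp, hq]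
      | monomial n a =>
        rw [Polynomial.aeval_monomial, Polynomial.aeval_monomial, Module.End.mul_apply, Module.End.mul_apply,
          Module.algebraMap_end_apply, Module.algebraMap_end_apply, map_smul, h.comm_pow]
    let L : V →ₗ[k[X]] V' := { l with map_smul' := c1 }
    have hL : IsLocalizedModule (Submonoid.powers (X : k[X])) L := by
      refine ⟨?_, ?_, ?_⟩
      · rintro ⟨_, m, rfl⟩
        rw [Module.End.isUnit_iff]
        have e : ((algebraMap k[X] (Module.End k[X] V')) (X ^ m) : V' → V') = (F' ^ m : V' →ₗ[k] V') := by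
          funext v
          rw [Module.algebraMap_end_apply, s2, map_pow, Polynomial.aeval_X]
        change Function.Bijective ((algebraMap k[X] (Module.End k[X] V')) (X ^ m) : V' → V')
        rw [e, Module.End.coe_pow]
        exact h.bij.iterate m
      · intro v'
        obtain ⟨m, v, hv⟩ := h.surj v'
        refine ⟨(v, ⟨X ^ m, m, rfl⟩), ?_⟩
        change (X ^ m : k[X]) • v' = l v
        rw [hv, s2, map_pow, Polynomial.aeval_X]
      · intro v w hvw
        have h0 : l (v - w) = 0 := by rw [map_sub, sub_eq_zero]; exact hvw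
        obtain ⟨m, hm⟩ := h.inj _ h0
        refine ⟨⟨X ^ m, m, rfl⟩, ?_⟩
        change (X ^ m : k[X]) • v = (X ^ m : k[X]) • w
        rw [s1, s1, map_pow, Polynomial.aeval_X, ← sub_eq_zero, ← map_sub, hm]
    have hT : IsLocalizedModule (Submonoid.powers (X : k[X])) (AlgebraTensorModule.rTensor k Y L) :=
      IsLocalizedModule.rTensor (R := k) (A := k[X]) (N := Y) (S := Submonoid.powers (X : k[X])) L
    have eT : ∀ v, (AlgebraTensorModule.rTensor k Y L) v = (l.rTensor Y) v := by
      intro v
      induction v using TensorProduct.induction_on with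
      | zero => rw [map_zero, map_zero]
      | add x y hx hy => rw [map_add, map_add, hx, hy]
      | tmul v y => rfl
    have eX : ∀ (m : ℕ) (v : V ⊗[k] Y), (X ^ m : k[X]) • v = ((F.rTensor Y) ^ m) v := by
      intro m v
      rw [hpow]
      induction v using TensorProduct.induction_on with
      | zero => rw [smul_zero, map_zero]
      | add x y hx hy => rw [smul_add, map_add, hx, hy]
      | tmul v y =>
        rw [TensorProduct.smul_tmul', LinearMap.rTensor_tmul, s1, map_pow, Polynomial.aeval_X]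
    intro v hv
    have h0 : (AlgebraTensorModule.rTensor k Y L) v = (AlgebraTensorModule.rTensor k Y L) 0 := by
      rw [eT, hv, map_zero]
    obtain ⟨⟨_, m, rfl⟩, hm⟩ := hT.exists_of_eq h0
    refine ⟨m, ?_⟩
    rw [← eX]
    rw [smul_zero] at hm
    exact hm

end Loc

section Torsion

variable {k A : Type u} [CommRing k] [Ring A] [Bialgebra k A]
  {V V' : Type u} [AddCommGroup V] [Module k V] [AddCommGroup V'] [Module k V']

theorem IsLoc.cm {F : V →ₗ[k] V} {F' : V' →ₗ[k] V'} {l : V →ₗ[k] V'} (h : IsLoc F F' l) (n : ℕ) :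
    IsLoc (K82.cm (A := A) F n) (K82.cm (A := A) F' n) (K82.cm (A := A) l n) := by
  induction n with
  | zero => exact h
  | succ n ih => exact ih.rTensor A

variable [HopfRep.Comod k A V] [HopfRep.Comod k A V']

theorem d_cm_pow (F : V →ₗ[k] V) (hF : Hoch.IsComodHom A F) (n m : ℕ) (x : (Hoch.cochain k A V n : Type u)) :
    Hoch.d k A V n (((cm (A := A) F n) ^ m) x) = ((cm (A := A) F (n + 1)) ^ m) (Hoch.d k A V n x) := by
  induction m generalizing x with
  | zero => rfl
  | succ m ih =>
    rw [pow_succ, pow_succ, Module.End.mul_apply, Module.End.mul_apply, ih]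
    congr 1
    exact LinearMap.congr_fun (d_cm F hF n) x

/-- TORSION: if the localization of `V` at `F` is a retract of a cofree comodule, every cocycle of degree `≥ 1` is a
coboundary after multiplication with a power of `F`. -/
theorem torsion_of_loc (F : V →ₗ[k] V) (F' : V' →ₗ[k] V') (l : V →ₗ[k] V') (hF : Hoch.IsComodHom A F)
    (hF' : Hoch.IsComodHom A F') (hl : Hoch.IsComodHom A l) (h : IsLoc F F' l) (r : V' ⊗[k] A →ₗ[k] V')
    (hr : HopfRep.Comod.coact (k := k) (A := A) ∘ₗ r = r.rTensor A ∘ₗ Hoch.Ind.coactAux k A V')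
    (hr1 : ∀ v : V', r (HopfRep.Comod.coact (k := k) (A := A) v) = v) (n : ℕ)
    (c : (Hoch.cochain k A V (n + 1) : Type u)) (hc : Hoch.d k A V (n + 1) c = 0) :
    ∃ (m : ℕ) (b : (Hoch.cochain k A V n : Type u)), Hoch.d k A V n b = ((cm (A := A) F (n + 1)) ^ m) c := by
  have h1 : Hoch.d k A V' (n + 1) (cm (A := A) l (n + 1) c) = 0 := by
    have := LinearMap.congr_fun (d_cm l hl (n + 1)) c
    rw [LinearMap.comp_apply, LinearMap.comp_apply, hc, map_zero] at this
    exact this
  have h2 := LinearMap.congr_fun (hh_d r hr hr1 n) (cm (A := A) l (n + 1) c)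
  rw [LinearMap.add_apply, LinearMap.comp_apply, LinearMap.comp_apply, h1, map_zero, zero_add,
    LinearMap.id_apply] at h2
  obtain ⟨m, b, hb⟩ := (h.cm (A := A) n).surj (hh r n (cm (A := A) l (n + 1) c))
  have h3 : cm (A := A) l (n + 1) (Hoch.d k A V n b - ((cm (A := A) F (n + 1)) ^ m) c) = 0 := by
    have e1 := LinearMap.congr_fun (d_cm l hl n) b
    rw [LinearMap.comp_apply, LinearMap.comp_apply] at e1
    rw [map_sub, (h.cm (A := A) (n + 1)).comm_pow, ← e1, hb, d_cm_pow F' hF', h2, sub_self]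
  obtain ⟨m', hm'⟩ := (h.cm (A := A) (n + 1)).inj _ h3
  refine ⟨m' + m, ((cm (A := A) F n) ^ m') b, ?_⟩
  rw [map_sub, sub_eq_zero] at hm'
  rw [d_cm_pow F hF, hm', pow_add, Module.End.mul_apply]

end Torsion

end Groth.Agent.ResProp.EF.K82
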