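import Groth.Agent.ResProp.EF.K82.Integral
import Groth.Agent.ResProp.EF.K711.Stab
import Groth.Agent.ResProp.EF.K171.CD2Final

/-!
# Node (T) of G2c: `K711.TorsStmt`, `K171.LemT`
-/

set_option autoImplicit false

universe u

open TensorProduct
open Groth.Agent.ResProp.EF.Grp

noncomputable section

namespace Groth.Agent.ResProp.EF.K82

theorem torsFor {k : Type u} [CommRing k] (H : Gp k) (B : Type u) [CommRing B] [Algebra k B]
    (cB : HopfRep.Comod k H.O B) (ρ : B →ₐ[k] B ⊗[k] H.O) (hρ : ∀ b, cB.coact b = ρ b)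
    (f : B) (hf : ρ f = f ⊗ₜ 1) (B' : Type u) [CommRing B'] [Algebra k B'] [Algebra B B']
    [IsScalarTower k B B'] [IsLocalization.Away f B'] (ρ' : B' →ₐ[k] B' ⊗[k] H.O)
    (hρ' : ∀ b, ρ' (algebraMap B B' b) =
      Algebra.TensorProduct.map (IsScalarTower.toAlgHom k B B') (AlgHom.id k H.O) (ρ b))
    (j : H.O →ₐ[k] B')
    (hj : ∀ a, ρ' (j a) = Algebra.TensorProduct.map j (AlgHom.id k H.O) (Coalgebra.comul (R := k) a)) :
    K711.TorsFor H B cB f := by
  have hone : cB.coact 1 = 1 := by rw [hρ, map_one]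
  have hmul : ∀ x y, cB.coact (x * y) = cB.coact x * cB.coact y := by
    intro x y
    rw [hρ, hρ, hρ, map_mul]
  have hf' : cB.coact f = f ⊗ₜ[k] (1 : H.O) := by rw [hρ, hf]
  have key : ∀ σ : B' →ₐ[k] B' ⊗[k] H.O, (∀ b, σ (algebraMap B B' b) =
      (IsScalarTower.toAlgHom k B B').toLinearMap.rTensor H.O (cB.coact b)) →
      ∀ x, σ (j.toLinearMap x) = j.toLinearMap.rTensor H.O (CoalgebraStruct.comul (R := k) x) := by
    intro σ hσ x
    have e : (σ : B' →+* B' ⊗[k] H.O) = (ρ' : B' →+* B' ⊗[k] H.O) := by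
      apply IsLocalization.ringHom_ext (Submonoid.powers f)
      refine RingHom.ext fun b => ?_
      change σ (algebraMap B B' b) = ρ' (algebraMap B B' b)
      rw [hσ, hρ', hρ]
      rfl
    have e2 : σ (j x) = ρ' (j x) := congrArg (fun g : B' →+* B' ⊗[k] H.O => g (j x)) e
    change σ (j x) = _
    rw [e2, hj]
    rfl
  intro M
  constructor
  · intro x hx
    obtain ⟨m, b, hb⟩ := torsion M.co cB hone hmul f hf' B' j.toLinearMap (map_one j) key 0 x hx
    exact ⟨m, b, hb⟩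
  · intro x hx
    obtain ⟨m, b, hb⟩ := torsion M.co cB hone hmul f hf' B' j.toLinearMap (map_one j) key 1 x hx
    exact ⟨m, b, hb⟩

theorem torsStmt : K711.TorsStmt.{u} := by
  intro k _ H B _ _ cB ρ hρ f hf B' _ _ _ _ _ ρ' hρ' j hj
  exact torsFor H B cB ρ hρ f hf B' ρ' hρ' j hj

theorem lemT (k : Type u) [CommRing k] : K171.LemT k := by
  intro H B _ _ cB ρ hρ f hf B' _ _ _ _ _ ρ' hρ' j hj
  exact torsFor H B cB ρ hρ f hf B' ρ' hρ' j hj

/-- G2c, with the data of node (D5) as only hypothesis -/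
theorem cd2_of_stab {k : Type u} [CommRing k] {G H : Gp k} (φ : G.O →ₐc[k] H.O) (p : ℕ) (hp : p.Prime)
    (hk : (Ideal.span {(p : k)}).IsMaximal) (t : ℕ) (D : K711.StabData φ t) : K65.CD2 p G H φ :=
  K711.cd2_of_stab torsStmt φ p hp hk t D

theorem cd2_of_stabData {k : Type u} [CommRing k] {G H : Gp k} (φ : G.O →ₐc[k] H.O) (p : ℕ) (hp : p.Prime)
    (hk : (Ideal.span {(p : k)}).IsMaximal) (t : ℕ) (D : K171.StabData φ t) : K65.CD2 p G H φ :=
  K171.cd2_of_stabData φ (lemT k) p hp hk t D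

end Groth.Agent.ResProp.EF.K82
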